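/-
The Fischer step from a symmetric group to a symmetric group of degree two more.
-/
import Cfsg.Agent.H7.TT.Symp
import Cfsg.Agent.H65.Fischer.Reps

set_option autoImplicit false
set_option linter.unusedSectionVars false

namespace H33.FiSym

open Cfsg H99 H7.TT
open scoped Classical

variable {G : Type*} [Group G] [Finite G] {D : Set G}

theorem z2_cases : ∀ a : ZMod 2, a = 0 ∨ a = 1 := by decide

theorem z2_self {X : Type*} (v : X → ZMod 2) : v + v = 0 :=
  funext fun x => by rcases z2_cases (v x) with h | h <;> simp [h] <;> decide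

theorem row_one {x : G} {z : D} : row D x z = 1 ↔ ¬ Commute x (z : G) := by
  rw [← row_eq_zero (D := D) (x := x) (z := z)]
  rcases z2_cases (row D x z) with h | h <;> simp [h]

theorem row_symm {x y : G} (hx : x ∈ D) (hy : y ∈ D) :
    row D x ⟨y, hy⟩ = row D y ⟨x, hx⟩ :=
  zmod_two_ext _ _ (by rw [row_eq_zero, row_eq_zero]; exact ⟨Commute.symm, Commute.symm⟩)

theorem row_inj (hcl : IsThreeTranspositionClass D) (hp : IsPrimitiveUnderConj D) {x a : G}
    (hx : x ∈ D) (ha : a ∈ D) (h : row D x = row D a) : x = a := by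
  refine (prim_vRel_eq hcl hp hx ha fun e he => ?_).symm
  rw [← row_eq_zero (z := ⟨e, he⟩), ← row_eq_zero (x := x) (z := ⟨e, he⟩), h]

/-- Non-commuting ordered pairs of members are conjugate. -/
theorem pair_conj (hcl : IsThreeTranspositionClass D) (hp : IsPrimitiveUnderConj D)
    (hw : ∃ a ∈ D, ∃ b ∈ D, a ≠ b ∧ Commute a b) {a b a' b' : G} (ha : a ∈ D) (hb : b ∈ D)
    (hab : ¬ Commute a b) (ha' : a' ∈ D) (hb' : b' ∈ D) (hab' : ¬ Commute a' b') :
    ∃ g : G, g * a * g⁻¹ = a' ∧ g * b * g⁻¹ = b' := by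
  obtain ⟨g, rfl⟩ := class_isConj hcl ha ha'
  obtain ⟨u, hu, rfl⟩ := trans_on_noncommuting hcl hp hw ha' (class_conj_mem hcl g hb)
    (fun h => hab ((conj_commute_iff g a b).1 h)) hb' hab'
  refine ⟨u * g, ?_, by group⟩
  rw [show u * g * a * (u * g)⁻¹ = u * (g * a * g⁻¹) * u⁻¹ by group,
    (perpIns_commute hu).eq, mul_inv_cancel_right]

/-- The partners of `d` are labelled by the pairs of an `n`-set. -/
structure Pts (D : Set G) (d : G) (n : ℕ) where
  cls : IsThreeTranspositionClass D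
  prim : IsPrimitiveUnderConj D
  mem_d : d ∈ D
  five : 5 ≤ n
  six : n ≠ 6
  pt : Fin n → Fin n → G
  symm : ∀ i j, pt i j = pt j i
  mem : ∀ i j, i ≠ j → pt i j ∈ perp D d
  surj : ∀ x ∈ perp D d, ∃ i j, i ≠ j ∧ pt i j = x
  comm : ∀ i j k l, i ≠ j → k ≠ l → (Commute (pt i j) (pt k l) ↔
      ((i = k ∧ j = l) ∨ (i = l ∧ j = k) ∨ (i ≠ k ∧ i ≠ l ∧ j ≠ k ∧ j ≠ l)))
  inj : ∀ i j k l, i ≠ j → k ≠ l → pt i j = pt k l → (i = k ∧ j = l) ∨ (i = l ∧ j = k)
  sum : ∀ i j k, i ≠ j → j ≠ k → i ≠ k → cj (pt i j) (pt j k) = pt i k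

namespace Pts

variable {d : G} {n : ℕ} (P : Pts D d n)
include P

theorem closed : Closed D := Closed.of_class P.cls

theorem hconj : ∀ g : G, ∀ x ∈ D, g * x * g⁻¹ ∈ D := fun g _ hx => class_conj_mem P.cls g hx

theorem exists_three : ∃ i j k : Fin n, i ≠ j ∧ j ≠ k ∧ i ≠ k := by
  have := P.five
  exact ⟨⟨0, by omega⟩, ⟨1, by omega⟩, ⟨2, by omega⟩, by simp, by simp, by simp⟩

theorem wide : ∃ a ∈ D, ∃ b ∈ D, a ≠ b ∧ Commute a b := by
  obtain ⟨i, j, -, hij, -, -⟩ := P.exists_three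
  exact ⟨d, P.mem_d, _, (P.mem i j hij).1, (P.mem i j hij).2.1.symm, (P.mem i j hij).2.2⟩

theorem comm' {i j s t : Fin n} (hij : i ≠ j) (hst : s ≠ t) :
    Commute (P.pt i j) (P.pt s t) ↔ ((i = s ∨ i = t) ↔ (j = s ∨ j = t)) := by
  rw [P.comm i j s t hij hst]
  grind

/-- A pair whose transposition commutes with that of `i j` and differs from it. -/
theorem perp_iff {i j k l : Fin n} (hij : i ≠ j) (hkl : k ≠ l) :
    P.pt k l ∈ perp D (P.pt i j) ↔ (k ≠ i ∧ k ≠ j ∧ l ≠ i ∧ l ≠ j) := by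
  constructor
  · rintro ⟨-, hne, hc⟩
    rcases (P.comm i j k l hij hkl).1 hc with ⟨rfl, rfl⟩ | ⟨rfl, rfl⟩ | ⟨h1, h2, h3, h4⟩
    · exact absurd rfl hne
    · exact absurd (P.symm _ _) hne
    · exact ⟨Ne.symm h1, Ne.symm h3, Ne.symm h2, Ne.symm h4⟩
  · rintro ⟨h1, h2, h3, h4⟩
    refine ⟨(P.mem k l hkl).1, fun h => ?_,
      (P.comm i j k l hij hkl).2 (Or.inr (Or.inr ⟨Ne.symm h1, Ne.symm h3, Ne.symm h2, Ne.symm h4⟩))⟩
    rcases P.inj k l i j hkl hij h with ⟨e, -⟩ | ⟨e, -⟩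
    · exact h1 e
    · exact h2 e

/-- Each partner has two labels. -/
theorem count (Q : G → Prop) :
    2 * {x | x ∈ perp D d ∧ Q x}.ncard =
      (Finset.univ.filter fun q : Fin n × Fin n => q.1 ≠ q.2 ∧ Q (P.pt q.1 q.2)).card := by
  set S := Finset.univ.filter fun q : Fin n × Fin n => q.1 ≠ q.2 ∧ Q (P.pt q.1 q.2) with hS
  have himg : {x | x ∈ perp D d ∧ Q x} = ↑(S.image fun q => P.pt q.1 q.2) := by
    ext x
    simp only [Set.mem_ofPred_eq, Finset.coe_image, Set.mem_image, Finset.mem_coe, hS,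
      Finset.mem_filter, Finset.mem_univ, true_and, Prod.exists]
    constructor
    · rintro ⟨hx, hq⟩
      obtain ⟨i, j, hij, rfl⟩ := P.surj x hx
      exact ⟨i, j, ⟨hij, hq⟩, rfl⟩
    · rintro ⟨i, j, ⟨hij, hq⟩, rfl⟩
      exact ⟨P.mem i j hij, hq⟩
  have hfib : ∀ x ∈ S.image (fun q => P.pt q.1 q.2),
      (S.filter fun q => P.pt q.1 q.2 = x).card = 2 := by
    intro x hx
    obtain ⟨⟨i, j⟩, hq, rfl⟩ := Finset.mem_image.1 hx
    simp only [hS, Finset.mem_filter, Finset.mem_univ, true_and] at hq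
    rw [Finset.card_eq_two]
    refine ⟨(i, j), (j, i), fun h => hq.1 (congrArg Prod.fst h), ?_⟩
    ext ⟨k, l⟩
    simp only [hS, Finset.mem_filter, Finset.mem_univ, true_and, Finset.mem_insert,
      Finset.mem_singleton, Prod.mk.injEq]
    constructor
    · rintro ⟨⟨hkl, -⟩, he⟩
      rcases P.inj k l i j hkl hq.1 he with h | h
      · exact Or.inl h
      · exact Or.inr h
    · rintro (⟨e1, e2⟩ | ⟨e1, e2⟩)
      · rw [e1, e2]; exact ⟨hq, rfl⟩
      · rw [e1, e2]; exact ⟨⟨hq.1.symm, P.symm i j ▸ hq.2⟩, P.symm _ _⟩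
  rw [himg, Set.ncard_coe_finset, Finset.card_eq_sum_card_image (fun q => P.pt q.1 q.2) S,
    Finset.sum_congr rfl hfib, Finset.sum_const, smul_eq_mul, mul_comm]

/-- `count` for any set presented as such a filter. -/
theorem count' (Q : G → Prop) (S : Finset (Fin n × Fin n))
    (hS : ∀ q, q ∈ S ↔ q.1 ≠ q.2 ∧ Q (P.pt q.1 q.2)) :
    2 * {x | x ∈ perp D d ∧ Q x}.ncard = S.card := by
  rw [P.count Q]
  congr 1
  ext q
  simp [hS q]

theorem card_avoid {i j k : Fin n} (hij : i ≠ j) (hjk : j ≠ k) (hik : i ≠ k) :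
    (Finset.univ.filter fun q : Fin n × Fin n => q.1 ≠ q.2 ∧ (q.1 ≠ i ∧ q.1 ≠ j ∧ q.1 ≠ k) ∧
      (q.2 ≠ i ∧ q.2 ≠ j ∧ q.2 ≠ k)).card = (n - 3) * (n - 4) := by
  have he : (Finset.univ.filter fun q : Fin n × Fin n => q.1 ≠ q.2 ∧ (q.1 ≠ i ∧ q.1 ≠ j ∧ q.1 ≠ k) ∧
      (q.2 ≠ i ∧ q.2 ≠ j ∧ q.2 ≠ k)) = ({i, j, k} : Finset (Fin n))ᶜ.offDiag := by
    ext q
    simp only [Finset.mem_filter, Finset.mem_univ, true_and, Finset.mem_offDiag, Finset.mem_compl,
      Finset.mem_insert, Finset.mem_singleton]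
    tauto
  have h3 : ({i, j, k} : Finset (Fin n)).card = 3 := Finset.card_eq_three.2 ⟨i, j, k, hij, hik, hjk, rfl⟩
  rw [he, Finset.offDiag_card, Finset.card_compl, h3, Fintype.card_fin]
  have := P.five
  obtain ⟨m, rfl⟩ : ∃ m, n = m + 4 := ⟨n - 4, by omega⟩
  simp only [show m + 4 - 3 = m + 1 by omega, show m + 4 - 4 = m by omega]
  ring_nf
  omega

/-- A member outside the commutant of `d` has a partner among the labelled ones. -/
theorem exists_common {c : G} (hc : c ∈ D) (hdc : ¬ Commute d c) :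
    ∃ i j, i ≠ j ∧ Commute c (P.pt i j) := by
  obtain ⟨i, j, k, hij, hjk, hik⟩ := P.exists_three
  have hn : ¬ Commute (P.pt i j) (P.pt j k) := by
    rw [P.comm' hij hjk]; grind
  obtain ⟨g, hg1, hg2⟩ := pair_conj P.cls P.prim P.wide (P.mem i j hij).1 (P.mem j k hjk).1 hn
    P.mem_d hc hdc
  have h1 := perp_conj P.hconj g (H65.Fischer.perp_mem_symm P.mem_d (P.mem i j hij))
  have h2 := perp_conj P.hconj g (H65.Fischer.perp_mem_symm P.mem_d (P.mem j k hjk))
  rw [hg1] at h1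
  rw [hg2] at h2
  obtain ⟨s, t, hst, he⟩ := P.surj _ h1
  exact ⟨s, t, hst, he ▸ h2.2.2⟩

/-- The count inside the commutant of a common partner. -/
theorem local_count {c : G} (hc : c ∈ D) (hdc : ¬ Commute d c) {i j : Fin n} (hij : i ≠ j)
    (hcij : Commute c (P.pt i j)) :
    (Finset.univ.filter fun q : Fin n × Fin n => q.1 ≠ q.2 ∧
      (Commute c (P.pt q.1 q.2) ∧ (q.1 ≠ i ∧ q.1 ≠ j ∧ q.2 ≠ i ∧ q.2 ≠ j))).card =
      (n - 3) * (n - 4) := by
  have hcne : c ≠ P.pt i j := fun e => hdc (e ▸ (P.mem i j hij).2.2)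
  have hset : (Finset.univ.filter fun q : Fin n × Fin n => q.1 ≠ q.2 ∧
      (Commute c (P.pt q.1 q.2) ∧ (q.1 ≠ i ∧ q.1 ≠ j ∧ q.2 ≠ i ∧ q.2 ≠ j))) =
      Finset.univ.filter fun q : Fin n × Fin n => q.1 ≠ q.2 ∧
        (P.pt q.1 q.2 ∈ perp D c ∧ P.pt q.1 q.2 ∈ perp D (P.pt i j)) := by
    refine Finset.filter_congr fun q _ => and_congr_right fun hq => ?_
    rw [P.perp_iff hij hq]
    exact ⟨fun h => ⟨⟨(P.mem _ _ hq).1, fun e => hdc (e ▸ (P.mem _ _ hq).2.2), h.1⟩, h.2⟩,
      fun h => ⟨h.1.2.2, h.2⟩⟩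
  rw [hset]
  refine Eq.trans ?_ (?_ : 2 * {x | x ∈ perp D d ∧ x ∈ perp D c ∧ x ∈ perp D (P.pt i j)}.ncard =
    (n - 3) * (n - 4))
  · exact (P.count' (fun x => x ∈ perp D c ∧ x ∈ perp D (P.pt i j)) _ fun q => by simp).symm
  obtain ⟨g, hg⟩ := class_isConj P.cls (P.mem i j hij).1 P.mem_d
  have hdi : d ∈ perp D (P.pt i j) := H65.Fischer.perp_mem_symm P.mem_d (P.mem i j hij)
  have hci : c ∈ perp D (P.pt i j) := ⟨hc, hcne, hcij.symm⟩
  have h1 := hg ▸ perp_conj P.hconj g hdi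
  have h2 := hg ▸ perp_conj P.hconj g hci
  obtain ⟨a, b, hab, ha⟩ := P.surj _ h1
  obtain ⟨a', b', hab', ha'⟩ := P.surj _ h2
  have hn : ¬ Commute (P.pt a b) (P.pt a' b') := by
    rw [ha, ha']; exact fun h => hdc ((conj_commute_iff g d c).1 h)
  obtain ⟨x, y, z, hxy, hyz, hxz, e1, e2⟩ : ∃ x y z, x ≠ y ∧ y ≠ z ∧ x ≠ z ∧
      P.pt a b = P.pt x y ∧ P.pt a' b' = P.pt y z := by
    rw [P.comm' hab hab'] at hn
    by_cases h : a = a' ∨ a = b'
    · have hb : ¬ (b = a' ∨ b = b') := fun hb => hn ⟨fun _ => hb, fun _ => h⟩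
      rw [not_or] at hb
      rcases h with rfl | rfl
      · exact ⟨b, a, b', hab.symm, hab', hb.2, P.symm _ _, rfl⟩
      · exact ⟨b, a, a', hab.symm, hab'.symm, hb.1, P.symm _ _, P.symm _ _⟩
    · have hb : b = a' ∨ b = b' := by_contra fun hb => hn ⟨fun h' => absurd h' h, fun h' => absurd h' hb⟩
      rw [not_or] at h
      rcases hb with rfl | rfl
      · exact ⟨a, b, b', hab, hab', h.2, rfl, rfl⟩
      · exact ⟨a, b, a', hab, hab'.symm, h.1, rfl, P.symm _ _⟩
  have hinj : Function.Injective fun w => g * w * g⁻¹ := fun p q hpq => by simpa using hpq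
  have himg : (fun w => g * w * g⁻¹) '' {w | w ∈ perp D d ∧ w ∈ perp D c ∧ w ∈ perp D (P.pt i j)} =
      {w | w ∈ perp D d ∧ w ∈ perp D (P.pt x y) ∧ w ∈ perp D (P.pt y z)} := by
    have h3 : {w | w ∈ perp D d ∧ w ∈ perp D c ∧ w ∈ perp D (P.pt i j)} =
        perp D (P.pt i j) ∩ perp D d ∩ perp D c := by
      ext w; simp only [Set.mem_ofPred_eq, Set.mem_inter_iff]; tauto
    rw [h3, Set.image_inter hinj, Set.image_inter hinj, H65.Fischer.conj_image_perp P.hconj,
      H65.Fischer.conj_image_perp P.hconj, H65.Fischer.conj_image_perp P.hconj, hg, ← ha, ← ha',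
      e1, e2]
    ext w; simp only [Set.mem_ofPred_eq, Set.mem_inter_iff]; tauto
  rw [← Set.ncard_image_of_injective _ hinj, himg, ← P.card_avoid hxy hyz hxz]
  refine P.count' (fun w => w ∈ perp D (P.pt x y) ∧ w ∈ perp D (P.pt y z)) _ fun q => ?_
  simp only [Finset.mem_filter, Finset.mem_univ, true_and]
  refine and_congr_right fun hq => ?_
  rw [P.perp_iff hxy hq, P.perp_iff hyz hq]
  tauto

/-- Two disjoint common pairs do not happen for five letters. -/
theorem five_out (h5 : n = 5) {c : G} (hc : c ∈ D) (hdc : ¬ Commute d c)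
    (hM : (Finset.univ.filter fun q : Fin n × Fin n =>
      q.1 ≠ q.2 ∧ Commute c (P.pt q.1 q.2)).card = 4) : False := by
  subst h5
  have hk : (perp D d).ncard = 10 := by
    have h := P.count fun _ => True
    simp only [and_true, Set.setOf_mem_eq] at h
    have : (Finset.univ.filter fun q : Fin 5 × Fin 5 => q.1 ≠ q.2).card = 20 := by decide
    omega
  have hl : (perp D d ∩ perp D (P.pt 0 1)).ncard = 3 := by
    have h := P.count fun x => x ∈ perp D (P.pt 0 1)
    have he : (Finset.univ.filter fun q : Fin 5 × Fin 5 => q.1 ≠ q.2 ∧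
        P.pt q.1 q.2 ∈ perp D (P.pt 0 1)).card = 6 := by
      rw [Finset.filter_congr fun q _ => and_congr_right fun hq =>
        P.perp_iff (show (0 : Fin 5) ≠ 1 by decide) hq]
      decide
    rw [he] at h
    have : perp D d ∩ perp D (P.pt 0 1) = {x | x ∈ perp D d ∧ x ∈ perp D (P.pt 0 1)} := rfl
    rw [this]
    omega
  have hm : (perp D d ∩ perp D c).ncard = 2 := by
    have h := P.count fun x => x ∈ perp D c
    have he : (Finset.univ.filter fun q : Fin 5 × Fin 5 => q.1 ≠ q.2 ∧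
        P.pt q.1 q.2 ∈ perp D c) = Finset.univ.filter fun q : Fin 5 × Fin 5 => q.1 ≠ q.2 ∧
        Commute c (P.pt q.1 q.2) := Finset.filter_congr fun q _ => and_congr_right fun hq =>
      ⟨fun h => h.2.2, fun h => ⟨(P.mem _ _ hq).1, fun e => hdc (e ▸ (P.mem _ _ hq).2.2), h⟩⟩
    rw [he, hM] at h
    have : perp D d ∩ perp D c = {x | x ∈ perp D d ∧ x ∈ perp D c} := rfl
    rw [this]
    omega
  have hsrg := H65.Fischer.srg_of_reps P.cls P.prim (n := D.ncard) rfl P.mem_d
    (P.mem 0 1 (by decide)) hc hdc hk hl hm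
  letI := Fintype.ofFinite D
  have hpos : 0 < D.ncard := (Set.ncard_pos (Set.toFinite _)).2 ⟨d, P.mem_d⟩
  have hpe := SimpleGraph.IsSRGWith.param_eq (H65.Fischer.graphOn D) hsrg.isSRGWith hpos
  obtain ⟨x, hx⟩ := H65.Fischer.srg_square (H65.Fischer.graphOn D) hsrg.isSRGWith hpos (by norm_num)
  rw [show D.ncard = 41 by omega] at hx
  norm_num at hx
  have : (11 : ℤ) ∣ 3600 := ⟨3 * (x * x), by omega⟩
  norm_num at this

/-- Every member outside the commutant of `d` avoids exactly one letter. -/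
theorem avoid {c : G} (hc : c ∈ D) (hdc : ¬ Commute d c) :
    ∃ p, ∀ i j, i ≠ j → (Commute c (P.pt i j) ↔ (i ≠ p ∧ j ≠ p)) := by
  let R : Fin n → Fin n → Prop := fun i j => i = j ∨ Commute c (P.pt i j)
  have hsymm : ∀ {i j}, R i j → R j i := fun {i j} h => h.imp Eq.symm fun h => P.symm i j ▸ h
  have htrans : ∀ {i j k}, R i j → R j k → R i k := by
    intro i j k h1 h2
    by_cases hij : i = j; · exact hij ▸ h2
    by_cases hjk : j = k; · exact hjk ▸ h1
    by_cases hik : i = k; · exact Or.inl hik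
    refine Or.inr ?_
    rw [← P.sum i j k hij hjk hik, cj]
    exact ((h1.resolve_left hij).mul_right (h2.resolve_left hjk)).mul_right (h1.resolve_left hij)
  let K : Fin n → Finset (Fin n) := fun i => Finset.univ.filter (R i)
  have hKmem : ∀ {i j}, j ∈ K i ↔ R i j := by simp [K]
  have hKeq : ∀ {i j}, R i j → K i = K j := fun h => Finset.ext fun x => by
    rw [hKmem, hKmem]; exact ⟨htrans (hsymm h), htrans h⟩
  set O := Finset.univ.filter fun q : Fin n × Fin n => q.1 ≠ q.2 ∧ R q.1 q.2 with hO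
  have hloc : ∀ i j, i ≠ j → R i j → O.card + 6 = (n - 3) * (n - 4) + 4 * (K i).card := by
    intro i j hij h
    have hK1 : (K i).card = ((K i).erase i).card + 1 :=
      (Finset.card_erase_add_one (hKmem.2 (Or.inl rfl))).symm
    have hK2 : (K i).card = ((K j).erase j).card + 1 := by
      rw [hKeq h, Finset.card_erase_add_one (hKmem.2 (Or.inl rfl))]
    set A := O.filter fun q => q.1 = i ∨ q.1 = j with hA
    set B := O.filter fun q => q.2 = i ∨ q.2 = j with hB
    have hAB : A ∩ B = {(i, j), (j, i)} := by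
      ext ⟨s, t⟩
      simp only [hA, hB, hO, Finset.mem_inter, Finset.mem_filter, Finset.mem_univ, true_and,
        Finset.mem_insert, Finset.mem_singleton, Prod.mk.injEq]
      have := hsymm h
      constructor
      · rintro ⟨⟨⟨hst, -⟩, (rfl | rfl)⟩, -, (rfl | rfl)⟩ <;> simp_all
      · rintro (⟨rfl, rfl⟩ | ⟨rfl, rfl⟩) <;> simp [hij, hij.symm, h, this]
    have hAcard : A.card + 2 = 2 * (K i).card := by
      have : A = ({i} ×ˢ (K i).erase i) ∪ ({j} ×ˢ (K j).erase j) := by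
        ext ⟨s, t⟩
        simp only [hA, hO, Finset.mem_filter, Finset.mem_univ, true_and, Finset.mem_union,
          Finset.mem_product, Finset.mem_singleton, Finset.mem_erase, hKmem]
        constructor
        · rintro ⟨⟨hst, hr⟩, (rfl | rfl)⟩
          · exact Or.inl ⟨rfl, Ne.symm hst, hr⟩
          · exact Or.inr ⟨rfl, Ne.symm hst, hr⟩
        · rintro (⟨rfl, hst, hr⟩ | ⟨rfl, hst, hr⟩)
          · exact ⟨⟨Ne.symm hst, hr⟩, Or.inl rfl⟩
          · exact ⟨⟨Ne.symm hst, hr⟩, Or.inr rfl⟩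
      rw [this, Finset.card_union_of_disjoint (Finset.disjoint_left.2 fun q h1 h2 =>
        hij ((Finset.mem_singleton.1 (Finset.mem_product.1 h1).1).symm.trans
          (Finset.mem_singleton.1 (Finset.mem_product.1 h2).1))),
        Finset.card_product, Finset.card_product, Finset.card_singleton, Finset.card_singleton]
      omega
    have hBcard : B.card = A.card := by
      refine Finset.card_equiv (Equiv.prodComm _ _) fun q => ?_
      obtain ⟨s, t⟩ := q
      simp only [hA, hB, hO, Finset.mem_filter, Finset.mem_univ, true_and, Equiv.prodComm_apply,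
        Prod.swap_prod_mk]
      exact ⟨fun h => ⟨⟨h.1.1.symm, hsymm h.1.2⟩, h.2⟩, fun h => ⟨⟨h.1.1.symm, hsymm h.1.2⟩, h.2⟩⟩
    have hrest : O \ (A ∪ B) = Finset.univ.filter fun q : Fin n × Fin n => q.1 ≠ q.2 ∧
        (Commute c (P.pt q.1 q.2) ∧ (q.1 ≠ i ∧ q.1 ≠ j ∧ q.2 ≠ i ∧ q.2 ≠ j)) := by
      ext q
      simp only [hA, hB, hO, R, Finset.mem_sdiff, Finset.mem_union, Finset.mem_filter,
        Finset.mem_univ, true_and]
      tauto
    have h1 := Finset.card_sdiff_add_card_eq_card (s := A ∪ B) (t := O)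
      (Finset.union_subset (Finset.filter_subset _ _) (Finset.filter_subset _ _))
    rw [hrest, P.local_count hc hdc hij (h.resolve_left hij)] at h1
    have h2 := Finset.card_union_add_card_inter A B
    rw [hAB, Finset.card_pair (fun e => hij (congrArg Prod.fst e))] at h2
    omega
  obtain ⟨i₀, j₀, hne₀, hc₀⟩ := P.exists_common hc hdc
  set k := (K i₀).card with hk
  set s := Finset.univ.filter fun i : Fin n => ∃ j, i ≠ j ∧ R i j with hs
  have hsk : ∀ i ∈ s, (K i).card = k := by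
    intro i hi
    simp only [hs, Finset.mem_filter, Finset.mem_univ, true_and] at hi
    obtain ⟨j, hij, h⟩ := hi
    have := hloc i j hij h
    have := hloc i₀ j₀ hne₀ (Or.inr hc₀)
    omega
  have hsub : ∀ i ∈ s, K i ⊆ s := by
    intro i hi x hx
    simp only [hs, Finset.mem_filter, Finset.mem_univ, true_and] at hi ⊢
    obtain ⟨j, hij, h⟩ := hi
    by_cases hxi : x = i
    · exact ⟨j, hxi ▸ hij, hxi ▸ h⟩
    · exact ⟨i, hxi, hsymm (hKmem.1 hx)⟩
  have hi₀ : i₀ ∈ s := by simpa [hs] using ⟨j₀, hne₀, Or.inr hc₀⟩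
  have hk2 : 2 ≤ k := by
    rw [hk, ← Finset.card_pair hne₀]
    exact Finset.card_le_card fun x hx => by
      rcases Finset.mem_insert.1 hx with rfl | hx
      · exact hKmem.2 (Or.inl rfl)
      · exact Finset.mem_singleton.1 hx ▸ hKmem.2 (Or.inr hc₀)
  have hOcard : O.card + s.card = s.card * k := by
    have : O = s.biUnion fun i => {i} ×ˢ (K i).erase i := by
      ext ⟨a, b⟩
      simp only [hO, hs, Finset.mem_filter, Finset.mem_univ, true_and, Finset.mem_biUnion,
        Finset.mem_product, Finset.mem_singleton, Finset.mem_erase, hKmem]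
      constructor
      · exact fun h => ⟨a, ⟨b, h.1, h.2⟩, rfl, Ne.symm h.1, h.2⟩
      · rintro ⟨i, -, he, hb, hr⟩
        rw [he]
        exact ⟨Ne.symm hb, hr⟩
    rw [this, Finset.card_biUnion (fun x _ y _ hxy => Finset.disjoint_left.2 fun q h1 h2 =>
      hxy ((Finset.mem_singleton.1 (Finset.mem_product.1 h1).1).symm.trans
        (Finset.mem_singleton.1 (Finset.mem_product.1 h2).1)))]
    have hterm : ∀ i ∈ s, (({i} : Finset (Fin n)) ×ˢ (K i).erase i).card + 1 = k := fun i hi => by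
      rw [Finset.card_product, Finset.card_singleton, one_mul,
        Finset.card_erase_add_one (hKmem.2 (Or.inl rfl)), hsk i hi]
    have := Finset.sum_congr rfl hterm
    rw [Finset.sum_add_distrib, Finset.sum_const, Finset.sum_const, smul_eq_mul, smul_eq_mul,
      mul_one] at this
    exact this
  have hmain : O.card + 6 = (n - 3) * (n - 4) + 4 * k := hloc i₀ j₀ hne₀ (Or.inr hc₀)
  have hsn : s.card ≤ n := (Finset.card_le_univ s).trans_eq (Fintype.card_fin n)
  have hn5 := P.five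
  by_cases hone : s = K i₀
  · have hsk' : s.card = k := by rw [hone]
    rw [hsk'] at hOcard
    have hkn : k + 1 = n := by
      obtain ⟨a, ha⟩ : ∃ a, k = a + 2 := ⟨k - 2, by omega⟩
      obtain ⟨b, hb⟩ : ∃ b, n = b + 5 := ⟨n - 5, by omega⟩
      subst hb
      rw [ha] at hOcard hmain hsk' ⊢
      simp only [show b + 5 - 3 = b + 2 by omega, show b + 5 - 4 = b + 1 by omega] at hmain
      rcases lt_trichotomy a (b + 2) with h | h | h
      · exfalso
        have : a + 1 ≤ b + 2 := h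
        nlinarith
      · omega
      · exfalso
        have : b + 3 ≤ a := h
        nlinarith
    have hcompl : sᶜ.card = 1 := by rw [Finset.card_compl, Fintype.card_fin]; omega
    obtain ⟨p, hp⟩ := Finset.card_eq_one.1 hcompl
    have hmem : ∀ i, i ∈ s ↔ i ≠ p := fun i => by
      rw [← not_iff_not, not_ne_iff, ← Finset.mem_compl, hp, Finset.mem_singleton]
    refine ⟨p, fun i j hij => ⟨fun h => ?_, fun h => ?_⟩⟩
    · have hi : i ∈ s := by simpa [hs] using ⟨j, hij, Or.inr h⟩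
      have hj : j ∈ s := by simpa [hs] using ⟨i, hij.symm, hsymm (Or.inr h)⟩
      exact ⟨(hmem i).1 hi, (hmem j).1 hj⟩
    · have hi := (hmem i).2 h.1
      have hj := (hmem j).2 h.2
      rw [hone, hKmem] at hi hj
      exact (htrans (hsymm hi) hj).resolve_left hij
  · exfalso
    obtain ⟨x, hxs, hxK⟩ := Finset.exists_of_ssubset ((hsub i₀ hi₀).ssubset_of_ne (Ne.symm hone))
    have hdisj : Disjoint (K i₀) (K x) := Finset.disjoint_left.2 fun y h1 h2 =>
      hxK (hKmem.2 (htrans (hKmem.1 h1) (hsymm (hKmem.1 h2))))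
    have h2k : 2 * k ≤ s.card := by
      have := Finset.card_le_card (Finset.union_subset (hsub i₀ hi₀) (hsub x hxs))
      rw [Finset.card_union_of_disjoint hdisj, hsk x hxs] at this
      omega
    by_cases h5 : n = 5
    · refine P.five_out h5 hc hdc ?_
      have hO4 : O.card = 4 := by
        subst h5
        have hk' : k = 2 := by omega
        have hs4 : s.card * k = s.card * 2 := by rw [hk']
        omega
      rw [← hO4, hO]
      congr 1
      refine Finset.filter_congr fun q _ => and_congr_right fun hq => ?_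
      exact ⟨Or.inr, fun h => h.resolve_left hq⟩
    · have h7 : 7 ≤ n := by have := P.six; omega
      obtain ⟨b, hb⟩ : ∃ b, n = b + 7 := ⟨n - 7, by omega⟩
      subst hb
      simp only [show b + 7 - 3 = b + 4 by omega, show b + 7 - 4 = b + 3 by omega] at hmain
      obtain ⟨a, ha⟩ : ∃ a, k = a + 2 := ⟨k - 2, by omega⟩
      rw [ha] at hOcard hmain h2k
      nlinarith

/-- The row of the third point of a line is the sum of the other two. -/
theorem row_cj {a b : G} (ha : a ∈ D) (hb : b ∈ D) (hab : ¬ Commute a b) :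
    row D (cj a b) = row D a + row D b := by
  obtain ⟨i, j, k, hij, hjk, hik⟩ := P.exists_three
  have hn : ¬ Commute (P.pt i j) (P.pt j k) := by
    rw [P.comm' hij hjk]; grind
  obtain ⟨g, rfl, rfl⟩ := pair_conj P.cls P.prim P.wide (P.mem i j hij).1 (P.mem j k hjk).1 hn
    ha hb hab
  funext z
  refine zmod_two_ext _ _ ?_
  rw [Pi.add_apply, zmod_two_add, row_eq_zero, row_eq_zero, row_eq_zero,
    show cj (g * P.pt i j * g⁻¹) (g * P.pt j k * g⁻¹) = g * cj (P.pt i j) (P.pt j k) * g⁻¹ by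
      simp only [cj]; group,
    P.sum i j k hij hjk hik]
  have hw : g⁻¹ * (z : G) * g ∈ D := by simpa using P.hconj g⁻¹ _ z.2
  obtain ⟨w, hwD, hz⟩ : ∃ w ∈ D, (z : G) = g * w * g⁻¹ := ⟨_, hw, by group⟩
  rw [hz, conj_commute_iff, conj_commute_iff, conj_commute_iff]
  by_cases hdw : Commute d w
  · by_cases hwd : w = d
    · subst hwd
      simp [(P.mem i j hij).2.2.symm, (P.mem j k hjk).2.2.symm, (P.mem i k hik).2.2.symm]
    · obtain ⟨s, t, hst, rfl⟩ := P.surj w ⟨hwD, hwd, hdw⟩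
      rw [P.comm' hik hst, P.comm' hij hst, P.comm' hjk hst]
      tauto
  · obtain ⟨p, hp⟩ := P.avoid hwD hdw
    have hh : ∀ s t, s ≠ t → (Commute (P.pt s t) w ↔ (s ≠ p ∧ t ≠ p)) := fun s t hst =>
      ⟨fun h => (hp s t hst).1 h.symm, fun h => ((hp s t hst).2 h).symm⟩
    rw [hh i k hik, hh i j hij, hh j k hjk]
    grind

end Pts

end H33.FiSym
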