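/-
A labelling of all members by pairs gives an isomorphism with a symmetric group.
-/
import Cfsg.Agent.H33.FiSym.Pts

set_option autoImplicit false
set_option linter.unusedSectionVars false

namespace H33.FiSym

open Cfsg H99 H7.TT
open scoped Classical

variable {G : Type*} [Group G] [Finite G] {D : Set G}

section model

variable {W : Type} [Fintype W] [DecidableEq W] (o : W) (u : W → D → ZMod 2)

/-- The value expected between two letters. -/
def bv (x y : W) : ZMod 2 := if x = o ∨ y = o ∨ x = y then 0 else 1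

theorem bv_pair {a b c e : W} (hab : a ≠ b) (hce : c ≠ e) :
    bv o c a + bv o e a + (bv o c b + bv o e b) =
      (if a = c ∨ a = e then 1 else 0) + (if b = c ∨ b = e then 1 else 0) := by
  unfold bv
  split_ifs <;> grind

end model

/-- A labelling of all members by the pairs of a set, compatible with rows. -/
theorem iso_of_labels (hcl : IsThreeTranspositionClass D) (hp : IsPrimitiveUnderConj D)
    (hZ : Subgroup.center G = ⊥)
    (hadd : ∀ a ∈ D, ∀ b ∈ D, ¬ Commute a b → row D (cj a b) = row D a + row D b)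
    {W : Type} [Fintype W] [DecidableEq W] (h7 : 7 ≤ Fintype.card W) (o : W) (u : W → D → ZMod 2)
    (hu : u o = 0) (hex : ∀ a b, a ≠ b → ∃ x ∈ D, row D x = u a + u b)
    (hnc : ∀ a b, a ≠ o → b ≠ o → a ≠ b → ∀ x ∈ D, ∀ y ∈ D, row D x = u a → row D y = u b →
      ¬ Commute x y)
    (hgen : ∀ y ∈ D, ∃ a b, a ≠ b ∧ ∃ g : G, (∃ z ∈ D, row D z = u a + u b ∧ g * z * g⁻¹ = y) ∧
      g ∈ Subgroup.closure {x | x ∈ D ∧ ∃ a b, a ≠ b ∧ row D x = u a + u b}) :
    ∃ e : G ≃* Equiv.Perm W, e '' D = {σ | σ.IsSwap} := by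
  have C := Closed.of_class hcl
  choose! T hTD hT using hex
  have hTu : ∀ {a b : W} {x : G}, a ≠ b → x ∈ D → row D x = u a + u b → x = T a b := fun hab hx h =>
    row_inj hcl hp hx (hTD _ _ hab) (h.trans (hT _ _ hab).symm)
  have hTs : ∀ {a b : W}, a ≠ b → T b a = T a b := fun {a b} hab =>
    hTu hab (hTD _ _ hab.symm) ((hT _ _ hab.symm).trans (add_comm _ _))
  have hTo : ∀ {a : W}, a ≠ o → row D (T o a) = u a := fun ha => by
    rw [hT _ _ ha.symm, hu, zero_add]
  have hbv : ∀ {a b : W} (hb : b ≠ o), u a ⟨T o b, hTD _ _ hb.symm⟩ = bv o a b := by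
    intro a b hb
    by_cases ha : a = o
    · subst ha; simp [hu, bv]
    rw [← hTo ha]
    by_cases hab : a = b
    · subst hab
      exact ((row_eq_zero (D := D) (x := T o a) (z := ⟨T o a, hTD _ _ hb.symm⟩)).2
        (Commute.refl _)).trans (by simp [bv])
    · rw [row_one.2 (hnc a b ha hb hab _ (hTD _ _ (Ne.symm ha)) _ (hTD _ _ hb.symm) (hTo ha) (hTo hb))]
      simp [bv, ha, hb, hab]
  have hval : ∀ {a b c e : W} (hab : a ≠ b) (hce : c ≠ e),
      row D (T a b) ⟨T c e, hTD _ _ hce⟩ =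
        (if a = c ∨ a = e then 1 else 0) + (if b = c ∨ b = e then 1 else 0) := by
    intro a b c e hab hce
    have key : ∀ x, u x ⟨T c e, hTD _ _ hce⟩ = bv o c x + bv o e x := by
      intro x
      by_cases hx : x = o
      · subst hx; simp [hu, bv]
      rw [← hTo hx, row_symm (hTD _ _ (Ne.symm hx)) (hTD _ _ hce), hT _ _ hce, Pi.add_apply, hbv hx,
        hbv hx]
    rw [hT _ _ hab, Pi.add_apply, key, key, bv_pair o hab hce]
  have hTinj : ∀ {a b c e : W}, a ≠ b → c ≠ e → T a b = T c e → Equiv.swap a b = Equiv.swap c e := by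
    intro a b c e hab hce h
    have hmem : ∀ {a b : W}, a ≠ b → T a b = T c e → a = c ∨ a = e := by
      intro a b hab h
      by_contra hno
      obtain ⟨q, -, hq⟩ := Finset.exists_mem_notMem_of_card_lt_card
        (s := ({a, b, c, e} : Finset W)) (t := Finset.univ) (by
          have h4 : ({a, b, c, e} : Finset W).card ≤ 4 := Finset.card_le_four
          rw [Finset.card_univ]; omega)
      simp only [Finset.mem_insert, Finset.mem_singleton, not_or] at hq
      have haq : a ≠ q := fun e => hq.1 e.symm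
      have h1 := hval hab haq
      have h2 := hval hce haq
      rw [h] at h1
      rw [h1] at h2
      revert h2
      rw [not_or] at hno
      simp [hno.1, hno.2, Ne.symm hno.1, Ne.symm hno.2, hab, hab.symm, hq.2.1, Ne.symm hq.2.1,
        hq.2.2.1, hq.2.2.2, Ne.symm hq.2.2.1, Ne.symm hq.2.2.2, haq]
    rcases hmem hab h with rfl | rfl <;> rcases hmem hab.symm ((hTs hab).trans h) with rfl | rfl
    · exact absurd rfl hab
    · rfl
    · exact Equiv.swap_comm _ _
    · exact absurd rfl hab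
  have hcj : ∀ {a b c e : W}, a ≠ b → c ≠ e →
      cj (T a b) (T c e) = T (Equiv.swap a b c) (Equiv.swap a b e) := by
    intro a b c e hab hce
    have hce' : Equiv.swap a b c ≠ Equiv.swap a b e := fun h => hce ((Equiv.swap a b).injective h)
    refine hTu hce' (C.cj_mem (hTD _ _ hab) (hTD _ _ hce)) ?_
    by_cases hc : Commute (T a b) (T c e)
    · have h0 := row_eq_zero (D := D) (x := T a b) (z := ⟨T c e, hTD _ _ hce⟩) |>.2 hc
      rw [hval hab hce] at h0
      rw [C.fix (hTD _ _ hab) hc, hT _ _ hce]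
      by_cases h1 : a = c ∨ a = e <;> by_cases h2 : b = c ∨ b = e <;> simp [h1, h2] at h0
      · rcases h1 with rfl | rfl <;> rcases h2 with rfl | rfl <;>
          simp_all [add_comm]
      · rw [not_or] at h1 h2
        rw [Equiv.swap_apply_of_ne_of_ne (Ne.symm h1.1) (Ne.symm h2.1),
          Equiv.swap_apply_of_ne_of_ne (Ne.symm h1.2) (Ne.symm h2.2)]
    · have h0 := row_one (D := D) (x := T a b) (z := ⟨T c e, hTD _ _ hce⟩) |>.2 hc
      rw [hval hab hce] at h0
      rw [hadd _ (hTD _ _ hab) _ (hTD _ _ hce) hc, hT _ _ hab, hT _ _ hce]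
      by_cases h1 : a = c ∨ a = e <;> by_cases h2 : b = c ∨ b = e <;> simp [h1, h2] at h0
      · rw [not_or] at h2
        rcases h1 with rfl | rfl
        · rw [Equiv.swap_apply_left, Equiv.swap_apply_of_ne_of_ne (Ne.symm hce) (Ne.symm h2.2),
            add_assoc, add_left_comm (u b) (u a), ← add_assoc (u a), z2_self, zero_add]
        · rw [Equiv.swap_apply_left, Equiv.swap_apply_of_ne_of_ne hce (Ne.symm h2.1),
            add_comm (u a) (u b), add_assoc, add_comm (u c) (u a), ← add_assoc (u a), z2_self,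
            zero_add, add_comm]
      · rw [not_or] at h1
        rcases h2 with rfl | rfl
        · rw [Equiv.swap_apply_right, Equiv.swap_apply_of_ne_of_ne (Ne.symm h1.2) (Ne.symm hce),
            add_assoc, ← add_assoc (u b), z2_self, zero_add]
        · rw [Equiv.swap_apply_right, Equiv.swap_apply_of_ne_of_ne (Ne.symm h1.1) hce,
            add_assoc, add_comm (u c) (u b), ← add_assoc (u b), z2_self, zero_add, add_comm]
  -- all members are labelled
  set I := {x | x ∈ D ∧ ∃ a b, a ≠ b ∧ row D x = u a + u b} with hI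
  have hImem : ∀ x ∈ I, ∃ a b, a ≠ b ∧ x = T a b := fun x ⟨hx, a, b, hab, h⟩ =>
    ⟨a, b, hab, hTu hab hx h⟩
  have hall : ∀ y ∈ D, ∃ a b, a ≠ b ∧ y = T a b := by
    intro y hy
    obtain ⟨a, b, hab, g, ⟨z, hz, hzr, rfl⟩, hg⟩ := hgen y hy
    rw [hTu hab hz hzr]
    clear hzr hz hy z
    induction hg using Subgroup.closure_induction'' generalizing a b with
    | mem x hx =>
      obtain ⟨a', b', hab', rfl⟩ := hImem x hx
      exact ⟨_, _, fun h => hab ((Equiv.swap a' b').injective h),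
        by rw [← C.cj_eq (hTD _ _ hab'), hcj hab' hab]⟩
    | inv_mem x hx =>
      obtain ⟨a', b', hab', rfl⟩ := hImem x hx
      exact ⟨_, _, fun h => hab ((Equiv.swap a' b').injective h),
        by rw [inv_inv, tt_inv hcl.1 (hTD _ _ hab'), ← cj, hcj hab' hab]⟩
    | one => exact ⟨a, b, hab, by group⟩
    | mul x y _ _ ihx ihy =>
      obtain ⟨a', b', hab', e⟩ := ihy a b hab
      obtain ⟨a'', b'', hab'', e'⟩ := ihx a' b' hab'
      refine ⟨a'', b'', hab'', ?_⟩
      rw [show x * y * T a b * (x * y)⁻¹ = x * (y * T a b * y⁻¹) * x⁻¹ by group, e, e']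
  -- the bijection with the transpositions
  let S : Set (Equiv.Perm W) := {σ | σ.IsSwap}
  have hsel : ∀ σ : S, ∃ a b : W, a ≠ b ∧ (σ : Equiv.Perm W) = Equiv.swap a b := fun σ => σ.2
  choose fa fb hfab hfeq using hsel
  have hTsw : ∀ {a b c e : W}, a ≠ b → c ≠ e → Equiv.swap a b = Equiv.swap c e → T a b = T c e := by
    intro a b c e hab hce h
    have h1 : Equiv.swap c e a = b := by rw [← h, Equiv.swap_apply_left]
    by_cases hac : a = c
    · subst hac; rw [Equiv.swap_apply_left] at h1; rw [h1]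
    · by_cases hae : a = e
      · subst hae; rw [Equiv.swap_apply_right] at h1; subst h1; exact hTs hce
      · rw [Equiv.swap_apply_of_ne_of_ne hac hae] at h1; exact absurd h1 hab
  let f : S → D := fun σ => ⟨T (fa σ) (fb σ), hTD _ _ (hfab σ)⟩
  have hf : Function.Bijective f := by
    refine ⟨fun σ τ h => Subtype.ext ?_, fun y => ?_⟩
    · rw [hfeq σ, hfeq τ]; exact hTinj (hfab σ) (hfab τ) (congrArg Subtype.val h)
    · obtain ⟨a, b, hab, he⟩ := hall y y.2
      refine ⟨⟨Equiv.swap a b, a, b, hab, rfl⟩, Subtype.ext ?_⟩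
      rw [he]
      exact hTsw (hfab _) hab (hfeq ⟨Equiv.swap a b, a, b, hab, rfl⟩).symm
  let F : S ≃ D := Equiv.ofBijective f hf
  have hFv : ∀ (σ : S) {a b : W}, a ≠ b → (σ : Equiv.Perm W) = Equiv.swap a b →
      ((F σ : D) : G) = T a b := fun σ a b hab h => hTsw (hfab σ) hab ((hfeq σ).symm.trans h)
  let ρ₀ : G →* Equiv.Perm D :=
    MonoidHom.mk' (fun g => ⟨fun x => ⟨g * x * g⁻¹, class_conj_mem hcl g x.2⟩,
      fun x => ⟨g⁻¹ * x * g⁻¹⁻¹, class_conj_mem hcl g⁻¹ x.2⟩,
      fun x => Subtype.ext (by group), fun x => Subtype.ext (by group)⟩)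
      fun g h => Equiv.ext fun x => Subtype.ext
        (show g * h * x * (g * h)⁻¹ = g * (h * x * h⁻¹) * g⁻¹ by group)
  let ρ : G →* Equiv.Perm S := F.symm.permCongrHom.toMonoidHom.comp ρ₀
  have hρ : Function.Injective ρ := by
    refine F.symm.permCongrHom.injective.comp ((injective_iff_map_eq_one ρ₀).2 fun g hg => ?_)
    have hcen : g ∈ Subgroup.center G := Subgroup.mem_center_iff.2 fun h => by
      have hle : (⊤ : Subgroup G) ≤ Subgroup.centralizer {g} := by
        rw [← hcl.2.2, Subgroup.closure_le]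
        intro x hx
        refine Subgroup.mem_centralizer_singleton_iff.2 ?_
        have := congrArg (fun π : Equiv.Perm D => ((π ⟨x, hx⟩ : D) : G)) hg
        exact (mul_inv_eq_iff_eq_mul.1 this).symm
      exact Subgroup.mem_centralizer_singleton_iff.1 (hle (Subgroup.mem_top h))
    rwa [hZ, Subgroup.mem_bot] at hcen
  let ψ : Equiv.Perm W →* Equiv.Perm S :=
    MonoidHom.mk' (fun τ => ⟨fun σ => ⟨τ * σ * τ⁻¹, by
        obtain ⟨a, b, hab, h⟩ := σ.2
        exact ⟨τ a, τ b, fun e => hab (τ.injective e), by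
          rw [h, Equiv.mul_swap_eq_swap_mul, mul_inv_cancel_right]⟩⟩,
      fun σ => ⟨τ⁻¹ * σ * τ⁻¹⁻¹, by
        obtain ⟨a, b, hab, h⟩ := σ.2
        exact ⟨τ⁻¹ a, τ⁻¹ b, fun e => hab (τ⁻¹.injective e), by
          rw [h, Equiv.mul_swap_eq_swap_mul, mul_inv_cancel_right]⟩⟩,
      fun σ => Subtype.ext (by group), fun σ => Subtype.ext (by group)⟩)
      fun g h => Equiv.ext fun x => Subtype.ext
        (show g * h * x * (g * h)⁻¹ = g * (h * x * h⁻¹) * g⁻¹ by group)
  have hψ : Function.Injective ψ := by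
    refine (injective_iff_map_eq_one ψ).2 fun τ hτ => Equiv.ext fun a => ?_
    have hfix : ∀ b, a ≠ b → τ a = a ∨ τ a = b := by
      intro b hab
      have h1 := congrArg (fun π : Equiv.Perm S =>
        ((π ⟨Equiv.swap a b, a, b, hab, rfl⟩ : S) : Equiv.Perm W)) hτ
      have h2 : τ * Equiv.swap a b * τ⁻¹ = Equiv.swap a b := h1
      rw [Equiv.mul_swap_eq_swap_mul, mul_inv_cancel_right] at h2
      by_contra hno
      rw [not_or] at hno
      have h3 := congrArg (fun π : Equiv.Perm W => π (τ a)) h2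
      simp only [Equiv.swap_apply_left, Equiv.swap_apply_of_ne_of_ne hno.1 hno.2] at h3
      exact hab (τ.injective h3).symm
    obtain ⟨b, -, hb⟩ := Finset.exists_mem_notMem_of_card_lt_card (s := ({a} : Finset W))
      (t := Finset.univ) (by rw [Finset.card_univ, Finset.card_singleton]; omega)
    rw [Finset.mem_singleton] at hb
    obtain ⟨c, -, hc⟩ := Finset.exists_mem_notMem_of_card_lt_card (s := ({a, b} : Finset W))
      (t := Finset.univ) (by rw [Finset.card_univ, Finset.card_pair (Ne.symm hb)]; omega)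
    simp only [Finset.mem_insert, Finset.mem_singleton, not_or] at hc
    rw [Equiv.Perm.one_apply]
    rcases hfix b (Ne.symm hb) with h | h
    · exact h
    · rcases hfix c (Ne.symm hc.1) with h' | h'
      · exact h'
      · exact absurd (h'.symm.trans h) hc.2
  have hkey : ∀ σ : S, ρ ((F σ : D) : G) = ψ σ := by
    intro σ
    refine Equiv.ext fun τ => F.injective (Subtype.ext ?_)
    show ((F (F.symm _) : D) : G) = _
    rw [Equiv.apply_symm_apply, Equiv.symm_symm]
    show ((F σ : D) : G) * ((F τ : D) : G) * ((F σ : D) : G)⁻¹ = _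
    obtain ⟨a, b, hab, hσ⟩ := σ.2
    obtain ⟨c, e, hce, hτ⟩ := τ.2
    rw [hFv σ hab hσ, hFv τ hce hτ, ← C.cj_eq (hTD _ _ hab), hcj hab hce]
    refine (hFv _ (fun h => hce ((Equiv.swap a b).injective h)) ?_).symm
    show (σ : Equiv.Perm W) * τ * (σ : Equiv.Perm W)⁻¹ = _
    rw [hσ, hτ, Equiv.mul_swap_eq_swap_mul, mul_inv_cancel_right]
  have himg : (fun x : G => ρ x) '' D = ψ '' S := by
    ext π
    constructor
    · rintro ⟨x, hx, rfl⟩
      refine ⟨(F.symm ⟨x, hx⟩ : S), (F.symm ⟨x, hx⟩).2, ?_⟩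
      rw [← hkey, Equiv.apply_symm_apply]
    · rintro ⟨σ, hσ, rfl⟩
      exact ⟨((F ⟨σ, hσ⟩ : D) : G), (F ⟨σ, hσ⟩).2, hkey ⟨σ, hσ⟩⟩
  have hrange : ρ.range = ψ.range := by
    rw [MonoidHom.range_eq_map, MonoidHom.range_eq_map, ← hcl.2.2,
      ← Equiv.Perm.closure_isSwap, MonoidHom.map_closure, MonoidHom.map_closure]
    exact congrArg Subgroup.closure himg
  let e : G ≃* Equiv.Perm W := ((MonoidHom.ofInjective hρ).trans
    (MulEquiv.subgroupCongr hrange)).trans (MonoidHom.ofInjective hψ).symm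
  have he : ∀ x, ψ (e x) = ρ x := fun x => by
    show ψ ((MonoidHom.ofInjective hψ).symm _) = _
    rw [MonoidHom.apply_ofInjective_symm]
    rfl
  refine ⟨e, Set.ext fun σ => ⟨?_, fun hσ => ?_⟩⟩
  · rintro ⟨x, hx, rfl⟩
    have : e x = ((F.symm ⟨x, hx⟩ : S) : Equiv.Perm W) := hψ (by
      rw [he, ← hkey, Equiv.apply_symm_apply])
    rw [this]
    exact (F.symm ⟨x, hx⟩).2
  · exact ⟨((F ⟨σ, hσ⟩ : D) : G), (F ⟨σ, hσ⟩).2, hψ (by rw [he, hkey])⟩

end H33.FiSym
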