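/-
The Fischer step from a symmetric group to a symmetric group of degree two more.
-/
import Cfsg.Agent.H33.FiSym.Labels

set_option autoImplicit false
set_option linter.unusedSectionVars false

namespace H33.FiSym

open Cfsg H99 H7.TT
open scoped Classical

variable {G : Type*} [Group G] [Finite G] {D : Set G}

/-- The step from degree `n` to degree `n + 2`. -/
theorem sym_step (hD : IsThreeTranspositionClass D) (hp : IsPrimitiveUnderConj D)
    (hZ : Subgroup.center G = ⊥) {d : G} (hd : d ∈ D) {n : ℕ} (hn : 5 ≤ n) (h6 : n ≠ 6)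
    (pt : Fin n → Fin n → G) (hsymm : ∀ i j, pt i j = pt j i)
    (hmem : ∀ i j, i ≠ j → pt i j ∈ perp D d)
    (hsurj : ∀ x ∈ perp D d, ∃ i j, i ≠ j ∧ pt i j = x)
    (hcomm : ∀ i j k l, i ≠ j → k ≠ l → (Commute (pt i j) (pt k l) ↔
      ((i = k ∧ j = l) ∨ (i = l ∧ j = k) ∨ (i ≠ k ∧ i ≠ l ∧ j ≠ k ∧ j ≠ l))))
    (hinj : ∀ i j k l, i ≠ j → k ≠ l → pt i j = pt k l → (i = k ∧ j = l) ∨ (i = l ∧ j = k))
    (hsum : ∀ i j k, i ≠ j → j ≠ k → i ≠ k → cj (pt i j) (pt j k) = pt i k) :
    ∃ e : G ≃* Equiv.Perm (Fin (n + 2)), e '' D = {σ | σ.IsSwap} := by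
  let P : Pts D d n := ⟨hD, hp, hd, hn, h6, pt, hsymm, hmem, hsurj, hcomm, hinj, hsum⟩
  have C := Closed.of_class hD
  obtain ⟨c₀, hc₀, hdc⟩ : ∃ c ∈ D, ¬ Commute d c := by
    obtain ⟨e, he, h⟩ := class_exists_not_commute hD hp.2.1 hd
    exact ⟨e, he, h⟩
  obtain ⟨p₀, hp₀⟩ := P.avoid hc₀ hdc
  have hpc : ∀ i, i ≠ p₀ → ¬ Commute (pt p₀ i) c₀ := fun i hi h =>
    ((hp₀ p₀ i (Ne.symm hi)).1 h.symm).1 rfl
  have hcd : ¬ Commute c₀ d := fun h => hdc h.symm
  have hd' : cj d c₀ ∈ D := C.cj_mem hd hc₀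
  have hpd' : ∀ i, i ≠ p₀ → ¬ Commute (pt p₀ i) (cj d c₀) := fun i hi => by
    rw [C.comm_right hd, C.fix hd (hmem p₀ i (Ne.symm hi)).2.2]
    exact hpc i hi
  let u : Option (Option (Fin n)) → D → ZMod 2 := fun w => match w with
    | none => 0
    | some none => row D d
    | some (some i) => if i = p₀ then row D c₀ else row D c₀ + row D (pt p₀ i)
  have hp' : ∀ i, i ≠ p₀ → pt p₀ i ∈ D := fun i hi => (hmem p₀ i (Ne.symm hi)).1
  have hL : ∀ i, i ≠ p₀ → row D (cj (pt p₀ i) c₀) = row D c₀ + row D (pt p₀ i) := fun i hi => by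
    rw [P.row_cj (hp' i hi) hc₀ (hpc i hi), add_comm]
  have hss : ∀ i j, i ≠ j → row D (pt i j) = u (some (some i)) + u (some (some j)) := by
    intro i j hij
    simp only [u]
    by_cases hi : i = p₀
    · subst hi
      rw [if_pos rfl, if_neg (Ne.symm hij), ← add_assoc, z2_self, zero_add]
    · by_cases hj : j = p₀
      · subst hj
        rw [if_neg hi, if_pos rfl, add_comm _ (row D c₀), ← add_assoc, z2_self, zero_add, hsymm]
      · rw [if_neg hi, if_neg hj, ← hsum i p₀ j hi (Ne.symm hj) hij,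
          P.row_cj (hmem i p₀ hi).1 (hp' j hj) ?_, hsymm i p₀, add_comm (row D c₀) (row D (pt p₀ i)),
          add_assoc, ← add_assoc (row D c₀), z2_self, zero_add]
        show ¬ Commute (P.pt i p₀) (P.pt p₀ j)
        rw [P.comm' hi (Ne.symm hj)]
        grind
  have hone : ∀ w, w ≠ none → ∃ x ∈ D, row D x = u w := by
    rintro (- | - | i) hw
    · exact absurd rfl hw
    · exact ⟨d, hd, rfl⟩
    · by_cases hi : i = p₀
      · exact ⟨c₀, hc₀, by simp [u, hi]⟩
      · exact ⟨_, C.cj_mem (hp' i hi) hc₀, by simp [u, hi, hL i hi]⟩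
  have hex : ∀ a b, a ≠ b → ∃ x ∈ D, row D x = u a + u b := by
    have hmid : ∀ i, ∃ x ∈ D, row D x = u (some none) + u (some (some i)) := by
      intro i
      by_cases hi : i = p₀
      · exact ⟨_, hd', by simp [u, hi, P.row_cj hd hc₀ hdc]⟩
      · refine ⟨_, C.cj_mem (hp' i hi) hd', ?_⟩
        rw [P.row_cj (hp' i hi) hd' (hpd' i hi), P.row_cj hd hc₀ hdc]
        simp only [u, if_neg hi]
        abel
    rintro (- | - | i) (- | - | j) hab
    all_goals first | exact absurd rfl hab | skip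
    · simpa [show u none = 0 from rfl] using hone (some none) (by simp)
    · simpa [show u none = 0 from rfl] using hone (some (some j)) (by simp)
    · simpa [show u none = 0 from rfl] using hone (some none) (by simp)
    · exact hmid j
    · simpa [show u none = 0 from rfl] using hone (some (some i)) (by simp)
    · rw [add_comm]; exact hmid i
    · have hij : i ≠ j := fun h => hab (by rw [h])
      exact ⟨_, (hmem i j hij).1, hss i j hij⟩
  have hnc : ∀ a b, a ≠ none → b ≠ none → a ≠ b → ∀ x ∈ D, ∀ y ∈ D, row D x = u a → row D y = u b →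
      ¬ Commute x y := by
    have hA : ∀ i, ∀ x ∈ D, row D x = u (some (some i)) → ¬ Commute x d := by
      intro i x hx h hc
      have h0 : row D x ⟨d, hd⟩ = 0 := row_eq_zero.2 hc
      rw [h] at h0
      simp only [u] at h0
      split_ifs at h0 with hi
      · exact hcd (row_eq_zero.1 h0)
      · rw [Pi.add_apply, row_one.2 hcd, row_eq_zero.2 (hmem p₀ i (Ne.symm hi)).2.2.symm] at h0
        exact absurd h0 (by decide)
    intro a b ha hb hab x hx y hy hxa hyb hc
    match a, b, ha, hb with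
    | none, _, ha, _ => exact ha rfl
    | _, none, _, hb => exact hb rfl
    | some none, some none, _, _ => exact hab rfl
    | some none, some (some j), _, _ =>
      have : x = d := row_inj hD hp hx hd hxa
      exact hA j y hy hyb (this ▸ hc.symm)
    | some (some i), some none, _, _ =>
      have : y = d := row_inj hD hp hy hd hyb
      exact hA i x hx hxa (this ▸ hc)
    | some (some i), some (some j), _, _ =>
      have hij : i ≠ j := fun h => hab (by rw [h])
      have h0 : row D x ⟨y, hy⟩ = 0 := row_eq_zero.2 hc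
      rw [hxa] at h0
      simp only [u] at hxa hyb h0
      by_cases hi : i = p₀
      · rw [if_pos hi] at h0
        have hj : j ≠ p₀ := fun h => hij (hi.trans h.symm)
        rw [if_neg hj] at hyb
        rw [row_symm hc₀ hy, hyb, Pi.add_apply,
          (row_eq_zero (D := D) (x := c₀) (z := ⟨c₀, hc₀⟩)).2 (Commute.refl _),
          row_one.2 (hpc j hj)] at h0
        exact absurd h0 (by decide)
      · rw [if_neg hi] at h0
        by_cases hj : j = p₀
        · rw [if_pos hj] at hyb
          obtain rfl : y = c₀ := row_inj hD hp hy hc₀ hyb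
          rw [Pi.add_apply, (row_eq_zero (D := D) (x := y) (z := ⟨y, hy⟩)).2 (Commute.refl _),
            row_one.2 (hpc i hi)] at h0
          exact absurd h0 (by decide)
        · rw [if_neg hj] at hyb
          have hn : ¬ Commute (pt p₀ i) (pt p₀ j) := by
            show ¬ Commute (P.pt p₀ i) (P.pt p₀ j)
            rw [P.comm' (Ne.symm hi) (Ne.symm hj)]
            grind
          rw [Pi.add_apply, row_symm hc₀ hy, row_symm (hp' i hi) hy, hyb, Pi.add_apply, Pi.add_apply,
            (row_eq_zero (D := D) (x := c₀) (z := ⟨c₀, hc₀⟩)).2 (Commute.refl _), row_one.2 (hpc j hj),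
            row_one.2 (fun h => hpc i hi h.symm), row_one.2 (fun h => hn h.symm)] at h0
          exact absurd h0 (by decide)
  have hgen : ∀ y ∈ D, ∃ a b : Option (Option (Fin n)), a ≠ b ∧ ∃ g : G,
      (∃ z ∈ D, row D z = u a + u b ∧ g * z * g⁻¹ = y) ∧
      g ∈ Subgroup.closure {x | x ∈ D ∧ ∃ a b, a ≠ b ∧ row D x = u a + u b} := by
    have hperp : ∀ y ∈ perpIns D d, ∃ a b : Option (Option (Fin n)), a ≠ b ∧ row D y = u a + u b := by
      intro y hy
      by_cases hyd : y = d
      · exact ⟨none, some none, by simp, by simp [u, hyd]⟩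
      · obtain ⟨i, j, hij, rfl⟩ := hsurj y ⟨hy.1, hyd, hy.2⟩
        exact ⟨some (some i), some (some j), fun h => hij (by simpa using h), hss i j hij⟩
    intro y hy
    by_cases hdy : Commute d y
    · obtain ⟨a, b, hab, h⟩ := hperp y ⟨hy, hdy⟩
      exact ⟨a, b, hab, 1, ⟨y, hy, h, by group⟩, one_mem _⟩
    · obtain ⟨g, hg, rfl⟩ := trans_on_noncommuting hD hp P.wide hd hc₀ hdc hy hdy
      exact ⟨none, some (some p₀), by simp, g, ⟨c₀, hc₀, by simp [u], rfl⟩,
        Subgroup.closure_mono (fun x hx => show x ∈ D ∧ _ from ⟨hx.1, hperp x hx⟩) hg⟩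
  obtain ⟨e, he⟩ := iso_of_labels hD hp hZ (fun a ha b hb => P.row_cj ha hb)
    (W := Option (Option (Fin n))) (by simp; omega) none u rfl hex hnc hgen
  let w : Option (Option (Fin n)) ≃ Fin (n + 2) :=
    ((finSuccEquiv (n + 1)).trans (finSuccEquiv n).optionCongr).symm
  refine ⟨e.trans w.permCongrHom, Set.ext fun σ => ⟨?_, fun hσ => ?_⟩⟩
  · rintro ⟨x, hx, rfl⟩
    obtain ⟨a, b, hab, h⟩ : (e x).IsSwap := by
      have : e x ∈ e '' D := ⟨x, hx, rfl⟩
      rwa [he] at this
    refine ⟨w a, w b, fun h => hab (w.injective h), ?_⟩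
    show w.permCongr (e x) = _
    rw [h, Equiv.permCongr_def, Equiv.symm_trans_swap_trans]
  · obtain ⟨a, b, hab, rfl⟩ := hσ
    have hmem : Equiv.swap (w.symm a) (w.symm b) ∈ e '' D := by
      rw [he]; exact ⟨_, _, fun h => hab (w.symm.injective h), rfl⟩
    obtain ⟨x, hx, hxe⟩ := hmem
    refine ⟨x, hx, ?_⟩
    show w.permCongr (e x) = _
    rw [hxe, Equiv.permCongr_def, Equiv.symm_trans_swap_trans, Equiv.apply_symm_apply,
      Equiv.apply_symm_apply]

end H33.FiSym
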