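/-
The step over a symmetric group, in the form used by the classification.
-/
import Cfsg.Agent.H33.FiSym.Step
import Cfsg.Agent.H71.Fischer.Defs

set_option autoImplicit false

namespace H33.FiSym

open Cfsg H99 H7.TT H5.TT.Fac

theorem swap_eq {α : Type*} [DecidableEq α] {i j k l : α} (hij : i ≠ j)
    (h : Equiv.swap i j = Equiv.swap k l) : (i = k ∧ j = l) ∨ (i = l ∧ j = k) := by
  have h1 : Equiv.swap k l i = j := by rw [← h, Equiv.swap_apply_left]
  rw [Equiv.swap_apply_def] at h1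
  split_ifs at h1 with a b
  · exact Or.inl ⟨a, h1.symm⟩
  · exact Or.inr ⟨b, h1.symm⟩
  · exact absurd h1 hij

theorem swap_commute {α : Type*} [DecidableEq α] {i j k l : α} (hij : i ≠ j) (hkl : k ≠ l) :
    Commute (Equiv.swap i j) (Equiv.swap k l) ↔
      ((i = k ∧ j = l) ∨ (i = l ∧ j = k) ∨ (i ≠ k ∧ i ≠ l ∧ j ≠ k ∧ j ≠ l)) := by
  constructor
  · intro h
    have h' : Equiv.swap (Equiv.swap i j k) (Equiv.swap i j l) = Equiv.swap k l := by
      have := Equiv.mul_swap_eq_swap_mul (Equiv.swap i j) k l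
      rw [h.eq] at this
      exact (mul_right_cancel this).symm
    rcases swap_eq (fun e => hkl ((Equiv.swap i j).injective e)) h' with ⟨e1, e2⟩ | ⟨e1, e2⟩ <;>
      · rw [Equiv.swap_apply_def] at e1 e2
        split_ifs at e1 e2 <;> grind
  · rintro (⟨rfl, rfl⟩ | ⟨rfl, rfl⟩ | ⟨h1, h2, h3, h4⟩)
    · exact Commute.refl _
    · rw [Equiv.swap_comm j i]
    · show _ * _ = _ * _
      rw [Equiv.mul_swap_eq_swap_mul, Equiv.swap_apply_of_ne_of_ne (Ne.symm h1) (Ne.symm h3),
        Equiv.swap_apply_of_ne_of_ne (Ne.symm h2) (Ne.symm h4)]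

universe u

theorem symStmt : H71.Fischer.SymStmt.{u} := by
  intro G _ _ D d n hS hn hcase
  obtain ⟨e, he⟩ := hcase
  have hdesc := hS.desc
  have hex : ∀ i j : Fin n, i ≠ j → ∃ x, ∃ hx : x ∈ perp D d, e (im hx) = Equiv.swap i j := by
    intro i j hij
    have hmem : Equiv.swap i j ∈ e '' qD D d := by
      rw [he]; exact ⟨i, j, hij, rfl⟩
    obtain ⟨z, hz, hze⟩ := hmem
    obtain ⟨x, hx, rfl⟩ := exists_of_mem hz
    exact ⟨x, hx, hze⟩
  choose! pt hmem hpt using hex
  have huniq : ∀ {i j : Fin n} {x : G} (hij : i ≠ j) (hx : x ∈ perp D d),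
      e (im hx) = Equiv.swap i j → x = pt i j := fun hij hx h =>
    im_inj hdesc hx (hmem _ _ hij) (e.injective (h.trans (hpt _ _ hij).symm))
  refine sym_step hS.cls hS.prim hS.triv hS.mem (n := n) (by omega) (by omega) pt ?_ hmem ?_ ?_ ?_ ?_
  · intro i j
    by_cases hij : i = j
    · rw [hij]
    · exact huniq (Ne.symm hij) (hmem i j hij) ((hpt i j hij).trans (Equiv.swap_comm _ _))
  · intro x hx
    obtain ⟨i, j, hij, h⟩ : (e (im hx)).IsSwap := by
      have : e (im hx) ∈ e '' qD D d := ⟨_, im_mem hx, rfl⟩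
      rwa [he] at this
    exact ⟨i, j, hij, (huniq hij hx h).symm⟩
  · intro i j k l hij hkl
    rw [← im_commute hdesc (hmem i j hij) (hmem k l hkl), ← swap_commute hij hkl, ← hpt i j hij,
      ← hpt k l hkl]
    exact ⟨fun h => h.map e.toMonoidHom, fun h => by simpa using h.map e.symm.toMonoidHom⟩
  · intro i j k l hij hkl h
    refine swap_eq hij ?_
    rw [← hpt i j hij, ← hpt k l hkl]
    simp only [h]
  · intro i j k hij hjk hik
    have hcj := (Closed.of_class hS.cls).cj_eq (hmem i j hij).1 (pt j k)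
    have hx : cj (pt i j) (pt j k) ∈ perp D d := by
      rw [hcj]
      exact perp_closure_conj hdesc (Subgroup.subset_closure (hmem i j hij)) (hmem j k hjk)
    refine huniq hik hx ?_
    have him : im hx = im (hmem i j hij) * im (hmem j k hjk) * (im (hmem i j hij))⁻¹ := by
      simp only [im, ← QuotientGroup.mk_inv, ← QuotientGroup.mk_mul]
      exact congrArg QuotientGroup.mk (Subtype.ext hcj)
    rw [him, map_mul, map_mul, map_inv, hpt i j hij, hpt j k hjk, Equiv.mul_swap_eq_swap_mul,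
      mul_inv_cancel_right, Equiv.swap_apply_right, Equiv.swap_apply_of_ne_of_ne (Ne.symm hik) (Ne.symm hjk)]

end H33.FiSym
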